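import Cfsg.Agent.H997.Emb.Rad

/-!
# The invariant quadratic form (helper997)
-/

set_option autoImplicit false
set_option linter.unusedSectionVars false
set_option linter.unusedVariables false

namespace Cfsg.Agent.H997.Emb

open Module Cfsg.Agent.H884.El
open Cfsg.Agent.H951 (fx cm Inv Irr mem_fx mem_cm)

variable {F V : Type*} [Field F] [Fintype F] [AddCommGroup V] [Module F V] [FiniteDimensional F V]
  {B : V →ₗ[F] V →ₗ[F] F} {y : V ≃ₗ[F] V} {p e r : ℕ} {A : Subgroup (V ≃ₗ[F] V)} {v w : V}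

/-- the situation: `v`, `w` a hyperbolic pair of `C_V(y)`, `v` fixed by `A` -/
structure Sit (B : V →ₗ[F] V →ₗ[F] F) (y : V ≃ₗ[F] V) (p e r : ℕ) (A : Subgroup (V ≃ₗ[F] V)) (v w : V) : Prop where
  pr : p.Prime
  pF : p ∣ Nat.card F
  amb : Amb B y e r
  rad : Rad B y p e A
  hv : v ∈ fx (en y)
  hw : w ∈ fx (en y)
  vw : B v w = 1
  fix : ∀ g ∈ A, g v = v

namespace Sit

open Rad (Rel)

theorem v0 (h : Sit B y p e r A v w) : v ≠ 0 := by
  rintro rfl
  have := h.vw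
  rw [map_zero, LinearMap.zero_apply] at this
  exact zero_ne_one this

theorem rel (h : Sit B y p e r A v w) {g : V ≃ₗ[F] V} (hg : g ∈ A) : ∃ u c, Rel B y v w g u c :=
  have := Fact.mk h.pr
  h.rad.exists_rel h.pF h.amb h.hv h.hw h.vw h.fix hg

theorem rel_one : Rel B y v w 1 0 0 := by
  refine ⟨Submodule.zero_mem _, ?_, fun x _ => ?_⟩
  · show w = w + 0 + (0 : F) • v
    simp
  · show x = x + B 0 x • v
    simp

theorem inj (h : Sit B y p e r A v w) {g g' : V ≃ₗ[F] V} (hg : g ∈ A) (hg' : g' ∈ A) {u : V} {c c' : F}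
    (h1 : Rel B y v w g u c) (h2 : Rel B y v w g' u c') : g = g' := by
  obtain ⟨a, b, h3⟩ := h.rel (A.inv_mem hg')
  have h4 := Emb.Rel.mul (h.fix g' hg') h2 h3
  rw [mul_inv_cancel] at h4
  have h5 := (Emb.Rel.uniq h.amb h.hv h.v0 h4 rel_one).1
  have h6 := Emb.Rel.mul (h.fix g hg) h1 h3
  rw [h5] at h6
  have h7 := Emb.Rel.eq_one h.amb h.rad h.hv h.hw h.vw (A.mul_mem hg (A.inv_mem hg'))
    (h.fix _ (A.mul_mem hg (A.inv_mem hg'))) h6
  exact mul_inv_eq_one.1 h7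

theorem surj (h : Sit B y p e r A v w) {u : V} (hu : u ∈ cm (en y)) : ∃ g ∈ A, ∃ c, Rel B y v w g u c := by
  have h1 : ∀ g : A, ∃ u c, Rel B y v w g u c := fun g => h.rel g.2
  choose U C hUC using h1
  let f : A → cm (en y) := fun g => ⟨U g, (hUC g).1⟩
  have hinj : Function.Injective f := by
    intro g g' hgg
    have h2 : U g = U g' := congrArg Subtype.val hgg
    have h3 := hUC g
    rw [h2] at h3
    exact Subtype.ext (h.inj g.2 g'.2 h3 (hUC g'))
  have : Finite V := Module.finite_of_finite F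
  have hcard : Nat.card (cm (en y)) ≤ Nat.card A := by
    rw [h.rad.card, Module.natCard_eq_pow_finrank (K := F), h.amb.cme]
  obtain ⟨g, hg⟩ := (hinj.bijective_of_nat_card_le hcard).2 ⟨u, hu⟩
  have h2 : U g = u := congrArg Subtype.val hg
  have h3 := hUC g
  rw [h2] at h3
  exact ⟨g, g.2, C g, h3⟩

/-- the characteristic is two -/
theorem two_eq_zero (h : Sit B y p e r A v w) : (2 : F) = 0 := by
  have hne : cm (en y) ≠ ⊥ := by
    intro h0
    have h1 := h.amb.cme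
    rw [h0, finrank_bot] at h1
    have := h.amb.he
    omega
  obtain ⟨u, hu, hu0⟩ := (Submodule.ne_bot_iff _).1 hne
  obtain ⟨u', hu', hB⟩ : ∃ u' ∈ cm (en y), B u u' ≠ 0 := by
    by_contra hcon
    push Not at hcon
    exact hu0 (h.amb.disj (h.amb.mem_fx_of_perp hcon) hu)
  obtain ⟨g, hg, c, h1⟩ := h.surj hu
  obtain ⟨g', hg', c', h2⟩ := h.surj hu'
  have h3 := Emb.Rel.mul (h.fix g hg) h1 h2
  have h4 := Emb.Rel.mul (h.fix g' hg') h2 h1
  rw [add_comm u' u] at h4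
  have h5 := h.inj (A.mul_mem hg hg') (A.mul_mem hg' hg) h3 h4
  rw [h5] at h3
  have h6 := (Emb.Rel.uniq h.amb h.hv h.v0 h3 h4).2
  rw [add_comm c' c, h.amb.skew u' u] at h6
  have h7 : B u u' = - B u u' := add_left_cancel h6
  have h8 : 2 * B u u' = 0 := by
    have : B u u' + B u u' = 0 := by
      conv_lhs => rw [h7]
      rw [← h7]
      conv_lhs => lhs; rw [h7]
      exact neg_add_cancel _
    rw [two_mul, this]
  exact (mul_eq_zero.1 h8).resolve_right hB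

/-- the cocycle -/
theorem exists_coc (h : Sit B y p e r A v w) : ∃ c : V → F,
    (∀ g ∈ A, ∃ u, Rel B y v w g u (c u)) ∧
    (∀ u ∈ cm (en y), ∀ u' ∈ cm (en y), c (u + u') = c u + c u' + B u u') ∧
    (∀ u ∈ cm (en y), c (y u) = c u) := by
  classical
  have h1 : ∀ u : V, ∃ c : F, u ∈ cm (en y) → ∃ g ∈ A, Rel B y v w g u c := by
    intro u
    by_cases hu : u ∈ cm (en y)
    · obtain ⟨g, hg, c, h2⟩ := h.surj hu
      exact ⟨c, fun _ => ⟨g, hg, h2⟩⟩
    · exact ⟨0, fun h => absurd h hu⟩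
  choose c hc using h1
  have key : ∀ g ∈ A, ∀ u t, Rel B y v w g u t → t = c u := by
    intro g hg u t ht
    obtain ⟨g', hg', h2⟩ := hc u ht.1
    have h3 := h.inj hg hg' ht h2
    rw [h3] at ht
    exact (Emb.Rel.uniq h.amb h.hv h.v0 ht h2).2
  refine ⟨c, fun g hg => ?_, fun u hu u' hu' => ?_, fun u hu => ?_⟩
  · obtain ⟨u, t, ht⟩ := h.rel hg
    rw [key g hg u t ht] at ht
    exact ⟨u, ht⟩
  · obtain ⟨g, hg, h2⟩ := hc u hu
    obtain ⟨g', hg', h3⟩ := hc u' hu'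
    exact (key _ (A.mul_mem hg hg') _ _ (Emb.Rel.mul (h.fix g hg) h2 h3)).symm
  · obtain ⟨g, hg, h2⟩ := hc u hu
    exact (key _ (h.rad.nrm g hg) _ _ (Emb.Rel.conj h.amb h.hv h.hw h2)).symm

/-- additive `y`-invariant functions on `[V, y]` vanish -/
theorem add_inv_zero (h : Sit B y p e r A v w) {d : V → F}
    (h1 : ∀ u ∈ cm (en y), ∀ u' ∈ cm (en y), d (u + u') = d u + d u') (h2 : ∀ u ∈ cm (en y), d (y u) = d u) :
    ∀ u ∈ cm (en y), d u = 0 := by
  intro u hu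
  -- `y - 1` is surjective on `cm y`
  have h3 : ∃ u' ∈ cm (en y), y u' - u' = u := by
    obtain ⟨z, hz⟩ := mem_cm.1 hu
    obtain ⟨f, hf, x, hx, rfl⟩ := h.amb.dec z
    refine ⟨x, hx, ?_⟩
    rw [← hz]
    show y x - x = y (f + x) - (f + x)
    rw [map_add, h.amb.yfx hf]
    abel
  obtain ⟨u', hu', rfl⟩ := h3
  have h4 := h1 (y u' - u') hu u' hu'
  rw [sub_add_cancel, h2 u' hu'] at h4
  exact right_eq_add.1 h4

end Sit

end Cfsg.Agent.H997.Emb
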