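import Cfsg.Agent.H997.Emb.Form

/-!
# Two opposite radicals give a quadratic form (helper997)
-/

set_option autoImplicit false
set_option linter.unusedSectionVars false
set_option linter.unusedVariables false

namespace Cfsg.Agent.H997.Emb

open Module Cfsg.Agent.H884.El
open Cfsg.Agent.H951 (fx cm Inv Irr mem_fx mem_cm)

variable {F V : Type*} [Field F] [Fintype F] [AddCommGroup V] [Module F V] [FiniteDimensional F V]
  {B : V →ₗ[F] V →ₗ[F] F} {y : V ≃ₗ[F] V} {p e r : ℕ} {A A' : Subgroup (V ≃ₗ[F] V)} {v w : V}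

/-- **Two opposite radicals**: the characteristic is two and there is an invariant quadratic form. -/
theorem form_of_sit (h : Sit B y p e r A v w) (h' : Sit B y p e r A' w (-v)) :
    (2 : F) = 0 ∧ ∃ Q : QuadraticForm F V, (∀ x z, QuadraticMap.polar Q x z = B x z) ∧
      ∀ g ∈ A ⊔ A', ∀ z, Q (g z) = Q z := by
  have h2 := h.two_eq_zero
  refine ⟨h2, ?_⟩
  have hdd : ∀ a : F, a + a = 0 := fun a => by rw [← two_mul, h2, zero_mul]
  have hneg : ∀ a : F, -a = a := fun a => neg_eq_of_add_eq_zero_left (hdd a)
  have hsymm : ∀ u u' : V, B u u' = B u' u := fun u u' => by rw [h.amb.skew, hneg]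
  obtain ⟨c, hc, hadd, hy⟩ := h.exists_coc
  obtain ⟨c', hc', hadd', hy'⟩ := h'.exists_coc
  -- the cocycles agree
  have hcc : ∀ u ∈ cm (en y), c' u = c u := by
    intro u hu
    have := h.add_inv_zero (d := fun u => c' u - c u) (fun a ha b hb => by
      show c' (a + b) - c (a + b) = (c' a - c a) + (c' b - c b)
      rw [hadd a ha b hb, hadd' a ha b hb]; ring) (fun a ha => by
      show c' (y a) - c (y a) = c' a - c a
      rw [hy a ha, hy' a ha]) u hu
    exact sub_eq_zero.1 this
  have hsm : ∀ (t : F), ∀ u ∈ cm (en y), c (t • u) = t * t * c u := by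
    intro t u hu
    have := h.add_inv_zero (d := fun u => c (t • u) - t * t * c u) (fun a ha b hb => by
      show c (t • (a + b)) - t * t * c (a + b) = (c (t • a) - t * t * c a) + (c (t • b) - t * t * c b)
      rw [smul_add, hadd _ (Submodule.smul_mem _ t ha) _ (Submodule.smul_mem _ t hb), hadd a ha b hb, map_smul,
        map_smul, LinearMap.smul_apply, smul_eq_mul, smul_eq_mul]
      ring) (fun a ha => by
      show c (t • y a) - t * t * c (y a) = c (t • a) - t * t * c a
      rw [← map_smul, hy _ (Submodule.smul_mem _ t ha), hy a ha]) u hu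
    exact sub_eq_zero.1 this
  -- coordinates
  have hvw := h.vw
  have hwv : B w v = 1 := by rw [hsymm, hvw]
  let π : V → V := fun z => z - B z w • v - B v z • w
  have hπ : ∀ z, π z ∈ cm (en y) := by
    intro z
    apply h.amb.mem_cm_of_perp
    intro f hf
    rw [h.amb.coord h.hv h.hw hvw hf]
    show B (z - B z w • v - B v z • w) (B f w • v + B v f • w) = 0
    simp only [map_add, map_sub, map_smul, LinearMap.sub_apply, LinearMap.smul_apply, smul_eq_mul, h.amb.alt, hvw, hwv,
      mul_zero, mul_one, sub_zero]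
    rw [hsymm v z]
    ring
  have hπadd : ∀ z z', π (z + z') = π z + π z' := by
    intro z z'
    show z + z' - B (z + z') w • v - B v (z + z') • w
      = (z - B z w • v - B v z • w) + (z' - B z' w • v - B v z' • w)
    rw [map_add, LinearMap.add_apply, map_add]
    module
  have hπsm : ∀ (t : F) z, π (t • z) = t • π z := by
    intro t z
    show t • z - B (t • z) w • v - B v (t • z) • w = t • (z - B z w • v - B v z • w)
    rw [map_smul, LinearMap.smul_apply, map_smul, smul_eq_mul, smul_eq_mul]
    module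
  have hdec : ∀ z, z = B z w • v + B v z • w + π z := by
    intro z
    show z = B z w • v + B v z • w + (z - B z w • v - B v z • w)
    module
  let q : V → F := fun z => c (π z) + B z w * B v z
  have hpolar : ∀ x z, q (x + z) - q x - q z = B x z := by
    intro x z
    have h3 : B x z = B x w * B v z + B v x * B z w + B (π x) (π z) := by
      conv_lhs => rw [hdec x, hdec z]
      simp only [map_add, map_smul, LinearMap.add_apply, LinearMap.smul_apply, smul_eq_mul, h.amb.alt, hvw, hwv,
        mul_zero, mul_one, add_zero, zero_add, h.amb.perp (hπ x) h.hv, h.amb.perp (hπ x) h.hw,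
        h.amb.perp' (hπ z) h.hv, h.amb.perp' (hπ z) h.hw]
      ring
    show c (π (x + z)) + B (x + z) w * B v (x + z) - (c (π x) + B x w * B v x) - (c (π z) + B z w * B v z) = B x z
    rw [hπadd, hadd _ (hπ x) _ (hπ z), map_add, LinearMap.add_apply, map_add, h3]
    ring
  have hqsm : ∀ (t : F) z, q (t • z) = (t * t) • q z := by
    intro t z
    show c (π (t • z)) + B (t • z) w * B v (t • z) = (t * t) * (c (π z) + B z w * B v z)
    rw [hπsm, hsm t _ (hπ z), map_smul, LinearMap.smul_apply, map_smul, smul_eq_mul, smul_eq_mul]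
    ring
  let Q : QuadraticForm F V := QuadraticMap.ofPolar q hqsm (fun x x' z => by
      show q (x + x' + z) - q (x + x') - q z = (q (x + z) - q x - q z) + (q (x' + z) - q x' - q z)
      rw [hpolar, hpolar, hpolar, map_add, LinearMap.add_apply]) (fun t x z => by
      show q (t • x + z) - q (t • x) - q z = t • (q (x + z) - q x - q z)
      rw [hpolar, hpolar, map_smul, LinearMap.smul_apply])
  have hQ : ∀ z, Q z = q z := fun z => rfl
  have hqv : ∀ (a b : F) (x : V), x ∈ cm (en y) → q (a • v + b • w + x) = c x + a * b := by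
    intro a b x hx
    have h3 : B (a • v + b • w + x) w = a := by
      simp only [map_add, map_smul, LinearMap.add_apply, LinearMap.smul_apply, smul_eq_mul, h.amb.alt, hvw,
        mul_zero, mul_one, add_zero, h.amb.perp hx h.hw]
    have h4 : B v (a • v + b • w + x) = b := by
      simp only [map_add, map_smul, smul_eq_mul, h.amb.alt, hvw, mul_zero, mul_one, add_zero, zero_add,
        h.amb.perp' hx h.hv]
    have h5 : π (a • v + b • w + x) = x := by
      show (a • v + b • w + x) - B (a • v + b • w + x) w • v - B v (a • v + b • w + x) • w = x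
      rw [h3, h4]
      module
    show c (π (a • v + b • w + x)) + B (a • v + b • w + x) w * B v (a • v + b • w + x) = c x + a * b
    rw [h3, h4, h5]
  have hA : ∀ g ∈ A, ∀ z, q (g z) = q z := by
    intro g hg z
    obtain ⟨u, hu, hgw, hgx⟩ := hc g hg
    have h3 : g z = (B z w + B v z * c u + B u (π z)) • v + B v z • w + (π z + B v z • u) := by
      conv_lhs => rw [hdec z]
      rw [map_add, map_add, map_smul, map_smul, h.fix g hg, hgw, hgx _ (hπ z)]
      module
    rw [h3, hqv _ _ _ (Submodule.add_mem _ (hπ z) (Submodule.smul_mem _ _ hu)),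
      hadd _ (hπ z) _ (Submodule.smul_mem _ _ hu), hsm _ u hu, map_smul, smul_eq_mul]
    show c (π z) + B v z * B v z * c u + B v z * B (π z) u + (B z w + B v z * c u + B u (π z)) * B v z
      = c (π z) + B z w * B v z
    have h4 := hdd (B v z * B v z * c u)
    have h5 := hdd (B v z * B u (π z))
    rw [hsymm (π z) u]
    linear_combination h4 + h5
  have hA' : ∀ g ∈ A', ∀ z, q (g z) = q z := by
    intro g hg z
    obtain ⟨u, hu, hgw, hgx⟩ := hc' g hg
    rw [hcc u hu] at hgw
    have hgv : g v = v - u - c u • w := by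
      have h3 : g v = - g (-v) := by rw [map_neg, neg_neg]
      rw [h3, hgw]
      module
    have h3 : g z = B z w • v + (B v z - B z w * c u + B u (π z)) • w + (π z + (- B z w) • u) := by
      conv_lhs => rw [hdec z]
      rw [map_add, map_add, map_smul, map_smul, h'.fix g hg, hgv, hgx _ (hπ z)]
      module
    rw [h3, hqv _ _ _ (Submodule.add_mem _ (hπ z) (Submodule.smul_mem _ _ hu)),
      hadd _ (hπ z) _ (Submodule.smul_mem _ _ hu), hsm _ u hu, map_smul, smul_eq_mul]
    show c (π z) + (- B z w) * (- B z w) * c u + (- B z w) * B (π z) u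
        + B z w * (B v z - B z w * c u + B u (π z)) = c (π z) + B z w * B v z
    rw [hsymm (π z) u]
    ring
  refine ⟨Q, hpolar, fun g hg => ?_⟩
  let S : Subgroup (V ≃ₗ[F] V) :=
    { carrier := {g | ∀ z, q (g z) = q z}
      one_mem' := fun z => rfl
      mul_mem' := fun {a b} ha hb z => by
        show q (a (b z)) = q z
        rw [ha, hb]
      inv_mem' := fun {a} ha z => (ha (a⁻¹ z)).symm.trans (congrArg q (a.apply_symm_apply z)) }
  have h3 : A ⊔ A' ≤ S := sup_le (fun g hg => hA g hg) (fun g hg => hA' g hg)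
  exact h3 hg

/-- **Two radicals without common fixed vectors.** -/
theorem form_of_rads (hp : p.Prime) (hpF : p ∣ Nat.card F) (hB : Amb B y e r) (h : Rad B y p e A)
    (h' : Rad B y p e A') (hfix : ∀ x, (∀ g ∈ A, g x = x) → (∀ g ∈ A', g x = x) → x = 0) :
    (2 : F) = 0 ∧ ∃ Q : QuadraticForm F V, (∀ x z, QuadraticMap.polar Q x z = B x z) ∧
      ∀ g ∈ A ⊔ A', ∀ z, Q (g z) = Q z := by
  have := Fact.mk hp
  obtain ⟨v, hv, hv0, hvA⟩ := Rad.exists_v hpF hB h
  obtain ⟨w, hw, hw0, hwA⟩ := Rad.exists_v hpF hB h'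
  have hne : B v w ≠ 0 := by
    intro h0
    -- then `w` is a multiple of `v`
    have hvne : ∃ w' ∈ fx (en y), B v w' ≠ 0 := by
      by_contra hcon
      push Not at hcon
      apply hv0
      apply hB.nd
      intro z
      obtain ⟨f, hf, x, hx, rfl⟩ := hB.dec z
      rw [map_add, hcon f hf, hB.perp' hx hv, add_zero]
    obtain ⟨w', hw', hvw'⟩ := hvne
    have h1 : B v ((B v w')⁻¹ • w') = 1 := by
      rw [map_smul, smul_eq_mul, inv_mul_cancel₀ hvw']
    have h2 := hB.coord hv (Submodule.smul_mem _ (B v w')⁻¹ hw') h1 hw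
    rw [h0, zero_smul, add_zero] at h2
    apply hw0
    refine hfix w (fun g hg => ?_) hwA
    rw [h2, map_smul, hvA g hg]
  refine form_of_sit (A := A) (A' := A') (v := v) (w := (B v w)⁻¹ • w)
    ⟨hp, hpF, hB, h, hv, Submodule.smul_mem _ _ hw, ?_, hvA⟩
    ⟨hp, hpF, hB, h', Submodule.smul_mem _ _ hw, Submodule.neg_mem _ hv, ?_, fun g hg => ?_⟩
  · rw [map_smul, smul_eq_mul, inv_mul_cancel₀ hne]
  · rw [map_neg, map_smul, LinearMap.smul_apply, smul_eq_mul, hB.skew w v, mul_neg, neg_neg, inv_mul_cancel₀ hne]
  · rw [map_smul, hwA g hg]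

end Cfsg.Agent.H997.Emb
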