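import Cfsg.Agent.H997.Emb.Opp
import Cfsg.Agent.H997.Emb.Two
import Cfsg.Agent.H997.Emb.Lift
import Cfsg.Agent.H883.Bridge
import Cfsg.Agent.AutOrth.Main
import Cfsg.Agent.S0294
import Cfsg.Prelude.Def_GeometricClasses

/-!
# `PΩ⁻_8(q)` in `Sp_8(q)` (helper997)

An irreducible subgroup `P` of `Sp_8(F)` with `P / scalars ≅ PΩ⁻_8(K)`, `|K| = |F| > 2`: the characteristic is two and
`P` fixes a quadratic form with polar form the symplectic form.
-/

set_option autoImplicit false
set_option linter.unusedSectionVars false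
set_option linter.unusedVariables false

namespace Cfsg.Agent.H997.Emb

open Module Cfsg.Geo Cfsg.Agent.H884.El Cfsg.Agent.LieClassical.OrthCore Cfsg.Agent.LieClassical.OrthTrans
open Cfsg.Agent.LieClassical.OrthCount (glEquiv glEquiv_apply)
open Cfsg.Agent.H951 (fx cm mem_fx mem_cm)
open Cfsg.Agent.AutOrth.Main (pe)
open scoped MatrixGroups

/-- `r` divides the order of `PΩ⁻_8(q)` -/
theorem dvd_card_minus8 {K : Type*} [Field K] [Fintype K] {a b : K}
    (hab : ∀ z₁ z₂ : K, z₁ ^ 2 + a * z₁ * z₂ + b * z₂ ^ 2 = 0 → z₁ = 0 ∧ z₂ = 0) {r : ℕ}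
    (hr : PP (Nat.card K) 6 r) : r ∣ Nat.card (Cfsg.POmega K (Cfsg.quadFormMinus 3 K a b)) := by
  have h1 := Cfsg.Agent.S0294.result (F := K) (q := Fintype.card K) rfl 4 le_rfl a b hab
  rw [show 4 - 1 = 3 from rfl] at h1
  have hq : 1 ≤ Fintype.card K := Fintype.card_pos
  have h2 : r ∣ Fintype.card K ^ 6 - 1 := by
    rw [← Nat.card_eq_fintype_card]
    exact (hr.dvd_iff (by rw [Nat.card_eq_fintype_card]; exact hq) 6).2 dvd_rfl
  have h3 : r ∣ Nat.gcd 4 (Fintype.card K ^ 4 + 1) * Nat.card (Cfsg.POmega K (Cfsg.quadFormMinus 3 K a b)) := by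
    rw [h1]
    apply Dvd.dvd.mul_left
    rw [Finset.prod_range_succ]
    exact Dvd.dvd.mul_left h2 _
  have h4 := hr.lt (by omega)
  rcases hr.prime.dvd_mul.1 h3 with h5 | h5
  · have h6 := Nat.le_of_dvd (by norm_num) (h5.trans (Nat.gcd_dvd_left _ _))
    omega
  · exact h5

variable {ι : Type} [Fintype ι] [DecidableEq ι] {F : Type*} [Field F] [Fintype F] {P : Subgroup (GL ι F)}

/-- the bilinear map of a form -/
noncomputable def bil (f : (ι → F) → (ι → F) → F) (hf : IsBilinearForm f) : (ι → F) →ₗ[F] (ι → F) →ₗ[F] F :=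
  LinearMap.mk₂ F f (fun x y v => hf.add_left x y v) (fun c x v => hf.smul_left c x v)
    (fun v x y => hf.add_right v x y) (fun c v x => hf.smul_right c v x)

theorem card_scalars_dvd : Nat.card ((scalars ι F).subgroupOf P) ∣ Nat.card F - 1 := by
  classical
  have h1 : Nat.card ((scalars ι F).subgroupOf P) ∣ Nat.card (scalars ι F) := by
    have h2 := Subgroup.card_dvd_of_le (inf_le_left : scalars ι F ⊓ P ≤ scalars ι F)
    have h3 : Nat.card ((scalars ι F).subgroupOf P) = Nat.card (scalars ι F ⊓ P : Subgroup (GL ι F)) := by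
      rw [← Subgroup.inf_subgroupOf_right]
      exact Nat.card_congr (Subgroup.subgroupOfEquivOfLe inf_le_right).toEquiv
    rw [h3]
    exact h2
  refine h1.trans ?_
  have h4 := Subgroup.card_range_dvd (Units.map (Matrix.scalar ι : F →+* Matrix ι ι F).toMonoidHom)
  rw [Nat.card_units] at h4
  exact h4


theorem en_pow (g : (ι → F) ≃ₗ[F] (ι → F)) (n : ℕ) : en g ^ n = en (g ^ n) := by
  refine LinearMap.ext fun v => ?_
  induction n with
  | zero => rfl
  | succ n ih =>
    rw [pow_succ', pow_succ', Module.End.mul_apply, ih]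
    rfl

theorem finrank_cm_of {r e : ℕ} (hr : PP (Nat.card F) e r) (he : 1 ≤ e) {x : Module.End F (ι → F)} (hx : x ^ r = 1)
    (hx1 : x ≠ 1) (hn : Fintype.card ι < 2 * e) :
    finrank F (cm x) = e ∧ finrank F (fx x) + e = Fintype.card ι := by
  have := Fact.mk hr.prime
  have hr0 := hr.ne0 he
  have h1 : e ∣ finrank F (cm x) := by
    rw [← ord_eq hr]
    exact H951.ord_dvd_finrank hx H951.inv_cm (H951.inf_fx_of_le_cm hr0 hx le_rfl)
  have h2 : finrank F (cm x) ≤ Fintype.card ι := by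
    rw [← Module.finrank_fintype_fun_eq_card (R := F) (η := ι)]
    exact Submodule.finrank_le _
  have h3 : finrank F (cm x) ≠ 0 := fun h0 => cm_ne_bot hx1 (Submodule.finrank_eq_zero.1 h0)
  have h4 : finrank F (cm x) = e := by
    obtain ⟨A, hA⟩ := h1
    have h4 : A < 2 := by
      by_contra hcon
      push Not at hcon
      have := Nat.mul_le_mul_left e hcon
      omega
    have h5 : A ≠ 0 := by rintro rfl; omega
    have hA1 : A = 1 := by omega
    rw [hA, hA1, mul_one]
  refine ⟨h4, ?_⟩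
  have h5 := H951.finrank_fx_add_cm hr0 hx
  rw [h4, Module.finrank_fintype_fun_eq_card] at h5
  exact h5

/-- the representation of `P` -/
noncomputable def tau (P : Subgroup (GL ι F)) : P →* ((ι → F) ≃ₗ[F] (ι → F)) :=
  (glEquiv ι F).toMonoidHom.comp P.subtype

theorem tau_injective : Function.Injective (tau P) :=
  (glEquiv ι F).injective.comp P.subtype_injective

theorem tau_apply (g : P) (v : ι → F) : tau P g v = ((g : GL ι F) : Matrix ι ι F).mulVec v := rfl

theorem rad_of_sok {S : Type*} [Group S] {πP : P →* S} {f : (ι → F) → (ι → F) → F} (hf : IsSymplecticForm f)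
    (hfP : FixesForm (matrixSet P) f) {p k : ℕ} (hp : p.Prime) (hF : Nat.card F = p ^ k) {yy : P}
    {A : Subgroup S} (hA : SOk (πP yy) (Nat.card F ^ 6) A) {B : Subgroup P}
    (hB : ∀ g, g ∈ B ↔ πP g ∈ A ∧ g ^ Nat.card A = 1) (hBc : Nat.card B = Nat.card A)
    (hBi : ∀ g ∈ B, πP g = 1 → g = 1) :
    Rad (bil f hf.bilinear) (tau P yy) p 6 (B.map (tau P)) := by
  have hcard : Nat.card (B.map (tau P)) = Nat.card F ^ 6 := by
    rw [Subgroup.card_map_of_injective tau_injective, hBc, hA.card]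
  refine ⟨?_, ?_, ?_, ?_, ?_, hcard⟩
  · rintro _ ⟨g, -, rfl⟩ u v
    exact hfP _ ⟨g, g.2, rfl⟩ u v
  · refine IsPGroup.of_card (n := k * 6) ?_
    rw [hcard, hF, ← pow_mul]
  · rintro _ ⟨g, hg, rfl⟩
    refine ⟨yy * g * yy⁻¹, (hB _).2 ⟨?_, ?_⟩, by simp only [map_mul, map_inv]⟩
    · rw [map_mul, map_mul, map_inv]
      exact hA.nrm _ ((hB g).1 hg).1
    · rw [conj_pow, ((hB g).1 hg).2, mul_one, mul_inv_cancel]
  · rintro _ ⟨g, hg, rfl⟩
    refine ⟨yy⁻¹ * g * yy, (hB _).2 ⟨?_, ?_⟩, by simp only [map_mul, map_inv]⟩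
    · rw [map_mul, map_mul, map_inv]
      exact hA.nrm' _ ((hB g).1 hg).1
    · have h1 := conj_pow (i := Nat.card A) (a := yy⁻¹) (b := g)
      rw [inv_inv, ((hB g).1 hg).2, mul_one, inv_mul_cancel] at h1
      exact h1
  · rintro _ ⟨g, hg, rfl⟩ hcomm
    rw [← map_mul, ← map_mul] at hcomm
    have h1 := tau_injective hcomm
    have h2 : πP g = 1 := hA.fpf _ ((hB g).1 hg).1 (by rw [← map_mul, h1, map_mul])
    rw [hBi g hg h2, map_one]

/-- **The embedding theorem.** -/
theorem fixQ_of_minus8 {K : Type*} [Field K] [Fintype K] {a b : K}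
    (hab : ∀ z₁ z₂ : K, z₁ ^ 2 + a * z₁ * z₂ + b * z₂ ^ 2 = 0 → z₁ = 0 ∧ z₂ = 0)
    (hKF : Nat.card K = Nat.card F) (hq : Nat.card F ≠ 2) (hι : Fintype.card ι = 8)
    (e : (P ⧸ (scalars ι F).subgroupOf P) ≃* Cfsg.POmega K (Cfsg.quadFormMinus 3 K a b))
    (hirr : ActsIrreducibly (matrixSet P)) {f : (ι → F) → (ι → F) → F} (hf : IsSymplecticForm f)
    (hfP : FixesForm (matrixSet P) f) :
    (2 : F) = 0 ∧ ∃ Q : QuadraticForm F (ι → F), (∀ x z, QuadraticMap.polar Q x z = f x z) ∧
      FixesQuadForm (matrixSet P) Q := by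
  classical
  -- the prime `r`
  obtain ⟨p, c₀, hp, hc₀, hF⟩ := exists_char F
  have hpF : p ∣ Nat.card F := hF ▸ dvd_pow_self p (by omega)
  have hF2 : 2 ≤ Nat.card F := Finite.one_lt_card
  obtain ⟨r, hr⟩ := exists_pp (q := Nat.card F) (e := 6) hF2 (by omega) (fun h => hq h.1)
  have hrK : PP (Nat.card K) 6 r := by rw [hKF]; exact hr
  -- the group `S`
  let S := P ⧸ (scalars ι F).subgroupOf P
  let πP : P →* S := QuotientGroup.mk' _
  have hπP : Function.Surjective πP := QuotientGroup.mk'_surjective _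
  have hkerP : πP.ker = (scalars ι F).subgroupOf P := QuotientGroup.ker_mk' _
  have hkc : πP.ker ≤ Subgroup.center P := by
    rw [hkerP]
    intro z hz
    rw [Subgroup.mem_subgroupOf, mem_scalars_iff] at hz
    obtain ⟨c, hcz⟩ := hz
    rw [Subgroup.mem_center_iff]
    intro g
    apply Subtype.ext
    apply Units.ext
    show ((g : GL ι F) : Matrix ι ι F) * ((z : GL ι F) : Matrix ι ι F)
      = ((z : GL ι F) : Matrix ι ι F) * ((g : GL ι F) : Matrix ι ι F)
    rw [hcz, Matrix.mul_smul, Matrix.smul_mul, mul_one, one_mul]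
  have hkd : Nat.card πP.ker ∣ Nat.card F - 1 := by rw [hkerP]; exact card_scalars_dvd
  have hfinS : Finite S := Finite.of_surjective πP hπP
  -- the orthogonal side
  obtain ⟨A, A', hsup, y, hA, hA', hyr, hy1⟩ : ∃ A A' : Subgroup S, A ⊔ A' = ⊤ ∧
      ∃ y : S, SOk y (Nat.card K ^ 6) A ∧ SOk y (Nat.card K ^ 6) A' ∧ y ^ r = 1 ∧ y ≠ 1 := by
    have hG : Good (LieClassical.QuadForms.minusForm 3 K a b) := Cfsg.Agent.AutOrth.Main.good_minus (by omega) hab
    have e' : S ≃* Cfsg.POmega K ⇑(LieClassical.QuadForms.minusForm 3 K a b) := by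
      rw [LieClassical.QuadForms.coe_minusForm]
      exact e
    let πE : E (LieClassical.QuadForms.minusForm 3 K a b) →* S :=
      (e'.symm.toMonoidHom.comp (pe hG).symm.toMonoidHom).comp (QuotientGroup.mk' _)
    have hπE : Function.Surjective πE :=
      (e'.symm.surjective.comp (pe hG).symm.surjective).comp (QuotientGroup.mk'_surjective _)
    have hkE : πE.ker = Subgroup.center _ := by
      refine Eq.trans ?_ (QuotientGroup.ker_mk' (Subgroup.center (E (LieClassical.QuadForms.minusForm 3 K a b))))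
      ext x
      rw [MonoidHom.mem_ker, MonoidHom.mem_ker]
      show e'.symm ((pe hG).symm _) = 1 ↔ _
      rw [e'.symm.map_eq_one_iff, (pe hG).symm.map_eq_one_iff]
    have hrS : r ∣ Nat.card S := by
      rw [Nat.card_congr e.toEquiv]
      exact dvd_card_minus8 hab hrK
    have := Fact.mk hr.prime
    obtain ⟨y, hy⟩ := exists_prime_orderOf_dvd_card' r hrS
    have hyr : y ^ r = 1 := by rw [← hy]; exact pow_orderOf_eq_one y
    have hy1 : y ≠ 1 := by
      rintro rfl
      rw [orderOf_one] at hy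
      exact hr.prime.one_lt.ne hy
    obtain ⟨A, A', h1, h2, h3⟩ := exists_opp hG (by
      rw [Module.finrank_fintype_fun_eq_card]; simp) (Cfsg.Agent.H955.not_isPlus_minus 3 hab) hπE
      (Cfsg.Agent.AutOrth.Gen.kerScalar_of_ker hG hkE) hrK hyr hy1
    exact ⟨A, A', h1, y, h2, h3, hyr, hy1⟩
  rw [hKF] at hA hA'
  -- lifts
  have hco : ∀ n : ℕ, (Nat.card F ^ n).Coprime (Nat.card πP.ker) := fun n =>
    Nat.Coprime.coprime_dvd_right hkd (Nat.Coprime.pow_left n (by
      have h1 : (Nat.card F).Coprime (Nat.card F - 1) := by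
        rw [Nat.coprime_self_sub_right (by omega)]
        exact Nat.coprime_one_right _
      exact h1))
  have hcor : r.Coprime (Nat.card πP.ker) := by
    rw [hr.prime.coprime_iff_not_dvd]
    intro h1
    have h2 : r ∣ Nat.card F ^ 1 - 1 := by rw [pow_one]; exact h1.trans hkd
    have h3 := (hr.dvd_iff (by omega) 1).1 h2
    have := Nat.le_of_dvd (by norm_num) h3
    omega
  obtain ⟨yy, hyy, hyyr⟩ := exists_lift_elem πP hπP hcor hyr
  obtain ⟨B, hB, hBm, hBc, hBi⟩ := exists_lift πP hπP hkc A (by rw [hA.card]; exact hco 6)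
  obtain ⟨B', hB', hBm', hBc', hBi'⟩ := exists_lift πP hπP hkc A' (by rw [hA'.card]; exact hco 6)
  rw [← hyy] at hA hA' hy1
  have hR := rad_of_sok hf hfP hp hF hA hB hBc hBi
  have hR' := rad_of_sok hf hfP hp hF hA' hB' hBc' hBi'
  -- the ambient data
  have hyy1 : yy ≠ 1 := fun h => hy1 (by rw [h, map_one])
  have hxr : en (tau P yy) ^ r = 1 := by
    rw [en_pow, ← map_pow, hyyr, map_one]
    rfl
  have hx1 : en (tau P yy) ≠ 1 := by
    intro h1
    apply hyy1
    apply tau_injective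
    rw [map_one]
    refine LinearEquiv.ext fun v => ?_
    exact congrArg (fun t : Module.End F (ι → F) => t v) h1
  obtain ⟨hcm, hfx⟩ := finrank_cm_of hr (by omega) hxr hx1 (by omega)
  have hAmb : Amb (bil f hf.bilinear) (tau P yy) 6 r := by
    refine ⟨hf.alternating, ?_, hr, by omega, hxr, ?_, hcm, by omega⟩
    · intro v hv
      by_contra h0
      obtain ⟨-, x, hx⟩ := hf.nondegenerate v h0
      exact hx (hv x)
    · intro u v
      exact hfP _ ⟨yy, yy.2, rfl⟩ u v
  -- `P` is generated by the radicals and scalars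
  have hgen : ∀ g : P, ∃ b ∈ B ⊔ B', ∃ c : F, ∀ v, tau P g v = c • tau P b v := by
    intro g
    have h1 : πP g ∈ (B ⊔ B').map πP := by
      rw [Subgroup.map_sup, hBm, hBm', hsup]
      trivial
    obtain ⟨b, hb, hbg⟩ := h1
    have h2 : b⁻¹ * g ∈ πP.ker := by
      rw [MonoidHom.mem_ker, map_mul, map_inv, hbg, inv_mul_cancel]
    rw [hkerP, Subgroup.mem_subgroupOf, mem_scalars_iff] at h2
    obtain ⟨c, hc⟩ := h2
    refine ⟨b, hb, c, fun v => ?_⟩
    have h3 : tau P (b⁻¹ * g) v = (c : F) • v := by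
      rw [tau_apply, hc, Matrix.smul_mulVec, Matrix.one_mulVec]
    have h4 : tau P g v = tau P b (tau P (b⁻¹ * g) v) := by
      have h5 : g = b * (b⁻¹ * g) := by rw [mul_inv_cancel_left]
      conv_lhs => rw [h5, map_mul]
      rfl
    rw [h4, h3, map_smul]
  have hfix : ∀ x, (∀ g ∈ B.map (tau P), g x = x) → (∀ g ∈ B'.map (tau P), g x = x) → x = 0 := by
    intro x hx hx'
    by_contra h0
    let St : Subgroup P :=
      { carrier := {g | tau P g x = x}
        one_mem' := by
          show tau P 1 x = x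
          rw [map_one]
          rfl
        mul_mem' := fun {a b} ha hb => by
          show tau P (a * b) x = x
          rw [map_mul]
          show tau P a (tau P b x) = x
          rw [hb, ha]
        inv_mem' := fun {a} ha => by
          show tau P a⁻¹ x = x
          rw [map_inv]
          show (tau P a).symm x = x
          rw [LinearEquiv.symm_apply_eq, ha] }
    have h1 : B ⊔ B' ≤ St := sup_le (fun g hg => hx _ ⟨g, hg, rfl⟩) (fun g hg => hx' _ ⟨g, hg, rfl⟩)
    rcases hirr (Submodule.span F {x}) (by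
      rintro _ ⟨g, hg, rfl⟩
      rw [Submodule.map_span_le]
      intro z hz
      rw [Set.mem_singleton_iff] at hz
      rw [hz]
      obtain ⟨b, hb, c, hc⟩ := hgen ⟨g, hg⟩
      have h2 := hc x
      have h3 : tau P b x = x := h1 hb
      rw [h3] at h2
      rw [Matrix.toLin'_apply]
      show tau P ⟨g, hg⟩ x ∈ _
      rw [h2]
      exact Submodule.smul_mem _ c (Submodule.mem_span_singleton_self x)) with h2 | h2
    · exact h0 (Submodule.span_singleton_eq_bot.1 h2)
    · have h3 := finrank_span_singleton (K := F) h0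
      rw [h2, finrank_top, Module.finrank_fintype_fun_eq_card] at h3
      omega
  obtain ⟨h2, Q, hQ, hQi⟩ := form_of_rads hp hpF hAmb hR hR' hfix
  refine ⟨h2, Q, hQ, ?_⟩
  rintro _ ⟨g, hg, rfl⟩ v
  obtain ⟨b, hb, c, hc⟩ := hgen ⟨g, hg⟩
  have hbm : tau P b ∈ B.map (tau P) ⊔ B'.map (tau P) := by
    rw [← Subgroup.map_sup]
    exact ⟨b, hb, rfl⟩
  have hcc : c * c = 1 := by
    have hne : Nonempty ι := Fintype.card_pos_iff.1 (by omega)
    obtain ⟨w, hw⟩ : ∃ w : ι → F, w ≠ 0 := exists_ne 0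
    obtain ⟨-, z, hz⟩ := hf.nondegenerate w hw
    have h3 : f (tau P ⟨g, hg⟩ w) (tau P ⟨g, hg⟩ z) = f w z := hfP _ ⟨g, hg, rfl⟩ w z
    have h4 : f (tau P b w) (tau P b z) = f w z := hfP _ ⟨b, b.2, rfl⟩ w z
    rw [hc, hc, hf.bilinear.smul_left, hf.bilinear.smul_right, h4, ← mul_assoc] at h3
    exact mul_right_cancel₀ hz (by rw [h3, one_mul])
  show Q (tau P ⟨g, hg⟩ v) = Q v
  rw [hc, QuadraticMap.map_smul, hcc, one_smul]
  exact hQi _ hbm v

end Cfsg.Agent.H997.Emb
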