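import Cfsg.Agent.H997.Emb.Fix
import Cfsg.Agent.H938.Sax.Frat

/-!
# Opposite radicals in symplectic spaces (helper997)

`y` an isometry of prime order `r`, `ord_r(q) = e`, `dim [V,y] = e`, `dim C_V(y) = 2`; `A` a `p`-group of isometries
of order `q ^ e` normalised by `y`, no element `≠ 1` of `A` commutes with `y`.  Then `A` fixes a vector `v ≠ 0` of
`C_V(y)` and is described by an additive cocycle; the characteristic is two and the cocycle is a quadratic form.
-/

set_option autoImplicit false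
set_option linter.unusedSectionVars false
set_option linter.unusedVariables false

namespace Cfsg.Agent.H997.Emb

open Module Cfsg.Agent.H884.El
open Cfsg.Agent.H951 (fx cm Inv Irr mem_fx mem_cm)

variable {F V : Type*} [Field F] [Fintype F] [AddCommGroup V] [Module F V] [FiniteDimensional F V]

/-- the linear map of a linear equivalence, as an endomorphism -/
abbrev en (y : V ≃ₗ[F] V) : Module.End F V := (y : V →ₗ[F] V)

/-- the ambient data -/
structure Amb (B : V →ₗ[F] V →ₗ[F] F) (y : V ≃ₗ[F] V) (e r : ℕ) : Prop where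
  alt : ∀ v, B v v = 0
  nd : ∀ v, (∀ w, B v w = 0) → v = 0
  pp : PP (Nat.card F) e r
  he : 3 ≤ e
  yr : en y ^ r = 1
  yiso : ∀ u v, B (y u) (y v) = B u v
  cme : finrank F (cm (en y)) = e
  fx2 : finrank F (fx (en y)) = 2

/-- the group `A` -/
structure Rad (B : V →ₗ[F] V →ₗ[F] F) (y : V ≃ₗ[F] V) (p e : ℕ) (A : Subgroup (V ≃ₗ[F] V)) : Prop where
  iso : ∀ g ∈ A, ∀ u v, B (g u) (g v) = B u v
  pg : IsPGroup p A
  nrm : ∀ g ∈ A, y * g * y⁻¹ ∈ A
  nrm' : ∀ g ∈ A, y⁻¹ * g * y ∈ A
  fpf : ∀ g ∈ A, y * g = g * y → g = 1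
  card : Nat.card A = Nat.card F ^ e

variable {B : V →ₗ[F] V →ₗ[F] F} {y : V ≃ₗ[F] V} {p e r : ℕ} {A : Subgroup (V ≃ₗ[F] V)}

namespace Amb

theorem skew (h : Amb B y e r) (u v : V) : B u v = - B v u := by
  have h1 := h.alt (u + v)
  simp only [map_add, LinearMap.add_apply, h.alt, zero_add, add_zero] at h1
  exact eq_neg_of_add_eq_zero_right h1

theorem r0 (h : Amb B y e r) : (r : F) ≠ 0 := h.pp.ne0 (by have := h.he; omega)

theorem yfx (h : Amb B y e r) {v : V} (hv : v ∈ fx (en y)) : y v = v := mem_fx.1 hv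

theorem ycm (h : Amb B y e r) {v : V} (hv : v ∈ cm (en y)) : y v ∈ cm (en y) := H951.inv_cm v hv

theorem perp (h : Amb B y e r) {c f : V} (hc : c ∈ cm (en y)) (hf : f ∈ fx (en y)) : B c f = 0 := by
  obtain ⟨u, rfl⟩ := mem_cm.1 hc
  have h1 : B (y u) f = B u f := by
    conv_lhs => rw [← h.yfx hf]
    exact h.yiso u f
  show B (y u - u) f = 0
  rw [map_sub, LinearMap.sub_apply, h1, sub_self]

theorem perp' (h : Amb B y e r) {c f : V} (hc : c ∈ cm (en y)) (hf : f ∈ fx (en y)) : B f c = 0 := by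
  rw [h.skew, h.perp hc hf, neg_zero]

theorem dec (h : Amb B y e r) (z : V) : ∃ f ∈ fx (en y), ∃ c ∈ cm (en y), f + c = z := by
  have h1 : z ∈ fx (en y) ⊔ cm (en y) := by rw [(H951.isCompl_fx_cm h.r0 h.yr).sup_eq_top]; trivial
  exact Submodule.mem_sup.1 h1

theorem disj (h : Amb B y e r) {z : V} (h1 : z ∈ fx (en y)) (h2 : z ∈ cm (en y)) : z = 0 := by
  have h3 : z ∈ fx (en y) ⊓ cm (en y) := ⟨h1, h2⟩
  rw [(H951.isCompl_fx_cm h.r0 h.yr).inf_eq_bot] at h3
  exact (Submodule.mem_bot F).1 h3

theorem mem_fx_of_perp (h : Amb B y e r) {z : V} (hz : ∀ c ∈ cm (en y), B z c = 0) : z ∈ fx (en y) := by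
  obtain ⟨f, hf, c, hc, rfl⟩ := h.dec z
  have h1 : c = 0 := by
    apply h.nd
    intro w
    obtain ⟨f', hf', c', hc', rfl⟩ := h.dec w
    have h2 := hz c' hc'
    rw [map_add, LinearMap.add_apply, h.perp' hc' hf, zero_add] at h2
    rw [map_add, h.perp hc hf', h2, add_zero]
  rw [h1, add_zero]
  exact hf

theorem mem_cm_of_perp (h : Amb B y e r) {z : V} (hz : ∀ f ∈ fx (en y), B z f = 0) : z ∈ cm (en y) := by
  obtain ⟨f, hf, c, hc, rfl⟩ := h.dec z
  have h1 : f = 0 := by
    apply h.nd
    intro w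
    obtain ⟨f', hf', c', hc', rfl⟩ := h.dec w
    have h2 := hz f' hf'
    rw [map_add, LinearMap.add_apply, h.perp hc hf', add_zero] at h2
    rw [map_add, h.perp' hc' hf, h2, add_zero]
  rw [h1, zero_add]
  exact hc

theorem le_or (h : Amb B y e r) {W : Submodule F V} (hW : ∀ w ∈ W, y w ∈ W) : W ≤ fx (en y) ∨ cm (en y) ≤ W :=
  Cfsg.Agent.H938.Sax.Frat.le_or h.pp (by have := h.he; omega) h.yr h.cme hW

/-- coordinates in `C_V(y)` -/
theorem coord (h : Amb B y e r) {v w : V} (hv : v ∈ fx (en y)) (hw : w ∈ fx (en y)) (hvw : B v w = 1) {z : V}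
    (hz : z ∈ fx (en y)) : z = B z w • v + B v z • w := by
  have hli : LinearIndependent F ![v, w] := by
    rw [LinearIndependent.pair_iff]
    intro a b hab
    have h1 := congrArg (fun x => B x w) hab
    have h2 := congrArg (fun x => B v x) hab
    simp only [map_add, map_smul, LinearMap.add_apply, LinearMap.smul_apply, hvw, h.alt, smul_eq_mul, mul_one,
      mul_zero, add_zero, zero_add, map_zero, LinearMap.zero_apply] at h1 h2
    exact ⟨h1, h2⟩
  have hsp : Submodule.span F (Set.range ![v, w]) = fx (en y) := by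
    apply Submodule.eq_of_le_of_finrank_eq
    · rw [Submodule.span_le]
      rintro _ ⟨i, rfl⟩
      fin_cases i
      · exact hv
      · exact hw
    · rw [finrank_span_eq_card hli, h.fx2, Fintype.card_fin]
  rw [← hsp] at hz
  rw [Matrix.range_cons, Matrix.range_cons, Matrix.range_empty, Set.union_empty, Set.singleton_union,
    Submodule.mem_span_pair] at hz
  obtain ⟨a, b, rfl⟩ := hz
  have h1 : B (a • v + b • w) w = a := by
    simp [hvw, h.alt]
  have h2 : B v (a • v + b • w) = b := by
    simp [hvw, h.alt]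
  rw [h1, h2]

end Amb

/-- the fixed space -/
def fixA (A : Subgroup (V ≃ₗ[F] V)) : Submodule F V where
  carrier := {v | ∀ g ∈ A, g v = v}
  zero_mem' := fun g _ => map_zero g
  add_mem' := fun {a b} ha hb g hg => by rw [map_add, ha g hg, hb g hg]
  smul_mem' := fun c v hv g hg => by rw [map_smul, hv g hg]

namespace Rad

theorem conj_apply' (hA : Rad B y p e A) {g : V ≃ₗ[F] V} (_ : g ∈ A) (v : V) :
    g (y v) = y ((y⁻¹ * g * y) v) := by
  show g (y v) = y (y.symm (g (y v)))
  rw [LinearEquiv.apply_symm_apply]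

theorem fix_le (h : Amb B y e r) (hA : Rad B y p e A) : fixA A ≤ fx (en y) := by
  have hinv : ∀ w ∈ fixA A, y w ∈ fixA A := by
    intro w hw g hg
    rw [hA.conj_apply' hg, hw _ (hA.nrm' g hg)]
  rcases h.le_or hinv with h1 | h1
  · exact h1
  · exfalso
    have h2 : A = ⊥ := by
      rw [eq_bot_iff]
      intro g hg
      rw [Subgroup.mem_bot]
      refine hA.fpf g hg (LinearEquiv.ext fun z => ?_)
      obtain ⟨a, ha, b, hb, rfl⟩ := h.dec z
      have hga : g a ∈ fx (en y) := by
        apply h.mem_fx_of_perp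
        intro c hc
        have : B (g a) c = B (g a) (g c) := by rw [h1 hc g hg]
        rw [this, hA.iso g hg, h.perp' hc ha]
      show y (g (a + b)) = g (y (a + b))
      rw [map_add, map_add, map_add, map_add, h1 hb g hg, h1 (h.ycm hb) g hg, h.yfx hga, h.yfx ha]
    have h3 := hA.card
    rw [h2, Subgroup.card_bot] at h3
    have h4 : 1 < Nat.card F := Finite.one_lt_card
    have h5 : 1 < Nat.card F ^ e := Nat.one_lt_pow (by have := h.he; omega) h4
    omega

theorem exists_v [Fact p.Prime] (hpF : p ∣ Nat.card F) (h : Amb B y e r) (hA : Rad B y p e A) :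
    ∃ v ∈ fx (en y), v ≠ 0 ∧ ∀ g ∈ A, g v = v := by
  have hne : (⊤ : Submodule F V) ≠ ⊥ := by
    intro h0
    have h1 : finrank F (fx (en y)) ≤ finrank F (⊤ : Submodule F V) := Submodule.finrank_mono le_top
    rw [h0, finrank_bot, h.fx2] at h1
    omega
  obtain ⟨x, -, hx0, hx⟩ := exists_fixed hpF hA.pg hne (fun _ _ _ _ => trivial)
  exact ⟨x, fix_le h hA hx, hx0, hx⟩

/-- the relation between `g ∈ A` and its parameters -/
def Rel (B : V →ₗ[F] V →ₗ[F] F) (y : V ≃ₗ[F] V) (v w : V) (g : V ≃ₗ[F] V) (u : V) (c : F) : Prop :=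
  u ∈ cm (en y) ∧ g w = w + u + c • v ∧ ∀ x ∈ cm (en y), g x = x + B u x • v

theorem exists_rel [Fact p.Prime] (hpF : p ∣ Nat.card F) (h : Amb B y e r) (hA : Rad B y p e A) {v w : V}
    (hv : v ∈ fx (en y)) (hw : w ∈ fx (en y)) (hvw : B v w = 1) (hfix : ∀ g ∈ A, g v = v) {g : V ≃ₗ[F] V}
    (hg : g ∈ A) : ∃ u c, Rel B y v w g u c := by
  -- not every `g w - w` is a multiple of `v`
  have key : ¬ ∀ g ∈ A, g w - w ∈ Submodule.span F {v} := by
    intro hall
    have hst : ∀ g ∈ A, ∀ x ∈ cm (en y), g x ∈ cm (en y) := by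
      intro g hg x hx
      obtain ⟨c, hc⟩ := Submodule.mem_span_singleton.1 (hall g hg)
      have hw' : w = g (w - c • v) := by
        rw [map_sub, map_smul, hfix g hg, hc]; abel
      apply h.mem_cm_of_perp
      intro f hf
      have h1 : B (g x) v = 0 := by
        have : B (g x) v = B (g x) (g v) := by rw [hfix g hg]
        rw [this, hA.iso g hg, h.perp hx hv]
      have h2 : B (g x) w = 0 := by
        rw [hw', hA.iso g hg, map_sub, map_smul, h.perp hx hw, h.perp hx hv, smul_zero, sub_zero]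
      rw [h.coord hv hw hvw hf, map_add, map_smul, map_smul, h1, h2, smul_zero, smul_zero, add_zero]
    have hne : cm (en y) ≠ ⊥ := by
      intro h0
      have h1 := h.cme
      rw [h0, finrank_bot] at h1
      have := h.he
      omega
    obtain ⟨x, hx, hx0, hxf⟩ := exists_fixed hpF hA.pg hne hst
    exact hx0 (h.disj (fix_le h hA hxf) hx)
  -- the elements moved by multiples of `v`
  let W : Submodule F V :=
    { carrier := {x | ∀ g ∈ A, g x - x ∈ Submodule.span F {v}}
      zero_mem' := fun g _ => by rw [map_zero, sub_zero]; exact Submodule.zero_mem _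
      add_mem' := fun {a b} ha hb g hg => by
        rw [map_add, add_sub_add_comm]
        exact Submodule.add_mem _ (ha g hg) (hb g hg)
      smul_mem' := fun c x hx g hg => by
        rw [map_smul, ← smul_sub]
        exact Submodule.smul_mem _ c (hx g hg) }
  have hWinv : ∀ x ∈ W, y x ∈ W := by
    intro x hx g hg
    rw [hA.conj_apply' hg, ← map_sub]
    obtain ⟨c, hc⟩ := Submodule.mem_span_singleton.1 (hx _ (hA.nrm' g hg))
    rw [← hc, map_smul, h.yfx hv]
    exact Submodule.smul_mem _ c (Submodule.mem_span_singleton_self v)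
  have hcmW : cm (en y) ≤ W := by
    rcases h.le_or hWinv with h1 | h1
    · exfalso
      have hv0 : v ≠ 0 := by
        rintro rfl
        rw [map_zero, LinearMap.zero_apply] at hvw
        exact zero_ne_one hvw
      have hv1 : finrank F (Submodule.span F {v}) = 1 := finrank_span_singleton hv0
      have hnt : ¬ (⊤ : Submodule F V) ≤ Submodule.span F {v} := by
        intro h0
        have h2 : finrank F (fx (en y)) ≤ finrank F (Submodule.span F {v}) :=
          Submodule.finrank_mono (le_top.trans h0)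
        rw [h.fx2] at h2
        omega
      obtain ⟨x, -, hxN, hx⟩ := exists_fixed_mod hpF hA.pg hnt (fun g hg x hx => by
        obtain ⟨c, rfl⟩ := Submodule.mem_span_singleton.1 hx
        rw [map_smul, hfix g hg]
        exact Submodule.smul_mem _ c (Submodule.mem_span_singleton_self v)) (fun _ _ _ _ => trivial)
      have hxf : x ∈ fx (en y) := h1 hx
      have hxc := h.coord hv hw hvw hxf
      have hb : B v x ≠ 0 := by
        intro h0
        apply hxN
        rw [hxc, h0, zero_smul, add_zero]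
        exact Submodule.smul_mem _ _ (Submodule.mem_span_singleton_self v)
      apply key
      intro g hg
      have h2 := hx g hg
      have h3 : g x - x = B v x • (g w - w) := by
        conv_lhs => rw [hxc]
        rw [map_add, map_smul, map_smul, hfix g hg, smul_sub]
        abel
      rw [h3] at h2
      exact (Submodule.smul_mem_iff _ hb).1 h2
    · exact h1
  -- the parameters of `g`
  obtain ⟨f, hf, u, hu, hfu⟩ := h.dec (g w - w)
  have hvv : B v (g w - w) = 0 := by
    have : B v (g w) = B v w := by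
      conv_lhs => rw [← hfix g hg]
      exact hA.iso g hg v w
    rw [map_sub, this, sub_self]
  have hvf : B v f = 0 := by
    rw [← hfu, map_add, h.perp' hu hv, add_zero] at hvv
    exact hvv
  have hfc : f = B f w • v := by
    have := h.coord hv hw hvw hf
    rw [hvf, zero_smul, add_zero] at this
    exact this
  have hgw : g w = w + u + B f w • v := by
    have h1 : g w = w + (g w - w) := by abel
    rw [h1, ← hfu, ← hfc]
    abel
  refine ⟨u, B f w, hu, hgw, fun x hx => ?_⟩
  obtain ⟨l, hl⟩ := Submodule.mem_span_singleton.1 (hcmW hx g hg)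
  have hgx : g x = x + l • v := by rw [hl]; abel
  have h1 := hA.iso g hg x w
  rw [hgw, hgx, h.perp hx hw] at h1
  simp only [map_add, map_smul, LinearMap.add_apply, LinearMap.smul_apply, smul_eq_mul, h.perp hx hw, h.perp hx hv,
    h.perp' hu hv, h.alt, hvw, mul_zero, mul_one, add_zero, zero_add] at h1
  have h2 : l = B u x := by
    rw [h.skew u x]
    exact eq_neg_of_add_eq_zero_left h1
  rw [hgx, h2]

end Rad

section rel

variable {v w : V}

theorem Rel.uniq (h : Amb B y e r) (hv : v ∈ fx (en y)) (hv0 : v ≠ 0) {g : V ≃ₗ[F] V} {u u' : V} {c c' : F}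
    (h1 : Rad.Rel B y v w g u c) (h2 : Rad.Rel B y v w g u' c') : u = u' ∧ c = c' := by
  have h3 : (u - u') = (c' - c) • v := by
    have h4 := h1.2.1.symm.trans h2.2.1
    rw [sub_smul, sub_eq_sub_iff_add_eq_add]
    have h5 : u + c • v = u' + c' • v := by
      have : w + (u + c • v) = w + (u' + c' • v) := by rw [← add_assoc, ← add_assoc]; exact h4
      exact add_left_cancel this
    rw [h5]; abel
  have h5 : u - u' = 0 := h.disj (by rw [h3]; exact Submodule.smul_mem _ _ hv) (Submodule.sub_mem _ h1.1 h2.1)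
  refine ⟨sub_eq_zero.1 h5, ?_⟩
  rw [h5] at h3
  rcases smul_eq_zero.1 h3.symm with h6 | h6
  · exact (sub_eq_zero.1 h6).symm
  · exact absurd h6 hv0

theorem Rel.mul {g g' : V ≃ₗ[F] V} {u u' : V} {c c' : F} (hgv : g v = v)
    (h1 : Rad.Rel B y v w g u c) (h2 : Rad.Rel B y v w g' u' c') :
    Rad.Rel B y v w (g * g') (u + u') (c + c' + B u u') := by
  refine ⟨Submodule.add_mem _ h1.1 h2.1, ?_, fun x hx => ?_⟩
  · show g (g' w) = _
    rw [h2.2.1, map_add, map_add, map_smul, hgv, h1.2.1, h1.2.2 u' h2.1]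
    module
  · show g (g' x) = _
    rw [h2.2.2 x hx, map_add, map_smul, hgv, h1.2.2 x hx, map_add, LinearMap.add_apply]
    module

theorem Rel.conj (h : Amb B y e r) (hv : v ∈ fx (en y)) (hw : w ∈ fx (en y)) {g : V ≃ₗ[F] V} {u : V} {c : F}
    (h1 : Rad.Rel B y v w g u c) : Rad.Rel B y v w (y * g * y⁻¹) (y u) c := by
  have hyv : y v = v := h.yfx hv
  have hyw : y.symm w = w := by rw [LinearEquiv.symm_apply_eq, h.yfx hw]
  refine ⟨h.ycm h1.1, ?_, fun x hx => ?_⟩
  · show y (g (y.symm w)) = _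
    rw [hyw, h1.2.1, map_add, map_add, map_smul, hyv, h.yfx hw]
  · have hx' : y.symm x ∈ cm (en y) := by
      obtain ⟨z, rfl⟩ := mem_cm.1 hx
      refine mem_cm.2 ⟨y.symm z, ?_⟩
      show y (y.symm z) - y.symm z = y.symm (y z - z)
      rw [map_sub, LinearEquiv.apply_symm_apply, LinearEquiv.symm_apply_apply]
    show y (g (y.symm x)) = _
    rw [h1.2.2 _ hx', map_add, map_smul, hyv, LinearEquiv.apply_symm_apply]
    congr 2
    rw [← h.yiso, LinearEquiv.apply_symm_apply]

theorem Rel.eq_one (h : Amb B y e r) (hA : Rad B y p e A) (hv : v ∈ fx (en y)) (hw : w ∈ fx (en y))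
    (hvw : B v w = 1) {g : V ≃ₗ[F] V} (hg : g ∈ A) (hgv : g v = v) {c : F} (h1 : Rad.Rel B y v w g 0 c) : g = 1 := by
  refine hA.fpf g hg (LinearEquiv.ext fun z => ?_)
  obtain ⟨f, hf, x, hx, rfl⟩ := h.dec z
  have hgx : ∀ x ∈ cm (en y), g x = x := fun x hx => by
    rw [h1.2.2 x hx, map_zero, LinearMap.zero_apply, zero_smul, add_zero]
  have hgf : g f ∈ fx (en y) := by
    rw [h.coord hv hw hvw hf, map_add, map_smul, map_smul, hgv, h1.2.1, add_zero]
    exact Submodule.add_mem _ (Submodule.smul_mem _ _ hv)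
      (Submodule.smul_mem _ _ (Submodule.add_mem _ hw (Submodule.smul_mem _ _ hv)))
  show y (g (f + x)) = g (y (f + x))
  rw [map_add, map_add, map_add, map_add, hgx x hx, hgx _ (h.ycm hx), h.yfx hf, h.yfx hgf]

end rel

end Cfsg.Agent.H997.Emb
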